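import Mathlib
import Cfsg.Agent.Lib.Helper67.LSF.Defs

/-!
# LSF (S5286): package [CONVEX]

The set of free parts of the elements of the group `GG F` is convex in the Cayley tree of the
free group.
-/

set_option autoImplicit false

namespace Cfsg.Agent.Lib.Helper74.LSF

open Cfsg Cfsg.Agent.Lib.Helper67.LSF

universe u

theorem isReduced_map_perm {X : Type u} (π : Equiv.Perm X) {L : List (X × Bool)}
    (h : FreeGroup.IsReduced L) : FreeGroup.IsReduced (L.map fun ℓ => (π ℓ.1, ℓ.2)) := by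
  unfold FreeGroup.IsReduced at h ⊢
  rw [List.isChain_map]
  exact h.imp (fun a b hab hπ => hab (π.injective hπ))

theorem isReduced_invRev {X : Type u} {L : List (X × Bool)} (h : FreeGroup.IsReduced L) :
    FreeGroup.IsReduced (FreeGroup.invRev L) := by
  rw [FreeGroup.isReduced_iff_not_step]
  intro L₂ hs
  have := hs.invRev
  rw [FreeGroup.invRev_invRev] at this
  exact h.not_step this

theorem eq_of_mk_eq {X : Type u} {L L' : List (X × Bool)} (h : FreeGroup.IsReduced L)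
    (h' : FreeGroup.IsReduced L') (e : FreeGroup.mk L = FreeGroup.mk L') : L = L' := by
  classical
  have h1 := congrArg FreeGroup.toWord e
  rw [FreeGroup.toWord_mk, FreeGroup.toWord_mk, h.reduce_eq, h'.reduce_eq] at h1
  exact h1

variable {Ω : Type u} [Group Ω] {S : Subgroup Ω}

theorem path_suffix (hInv : PkgInv.{u}) (F : FusionSystem S) (A B : List (X F × Bool)) :
    ∀ q : Equiv.Perm S, Path F (A ++ B) q → ∃ q'' : Equiv.Perm S, Path F B q'' := by
  induction A with
  | nil => intro q h; exact ⟨q, h⟩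
  | cons ℓ A ih =>
    intro q h
    obtain ⟨x, b⟩ := ℓ
    cases b with
    | true =>
      obtain ⟨i, s, q₀, hp, -, -⟩ := (hInv S F).2.1 x (A ++ B) q h
      exact ih q₀ hp
    | false =>
      obtain ⟨i, s, q₀, hp, -, -⟩ := (hInv S F).2.2 x (A ++ B) q h
      exact ih q₀ hp

theorem convex_star (hPath : PkgPath.{u}) (hRed : PkgRed.{u}) (hInv : PkgInv.{u})
    (hMem : PkgMem.{u}) (F : FusionSystem S) (h : Ghat F) (hh : h ∈ GG F)
    (M₁ M₂ : List (X F × Bool)) (hred : FreeGroup.IsReduced (M₁ ++ M₂))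
    (hl : h.left = FreeGroup.mk (M₁ ++ M₂)) :
    ∃ k ∈ GG F, k.left = FreeGroup.mk M₁ := by
  obtain ⟨L, q, hp, hk⟩ := hPath S F h⁻¹ (inv_mem hh)
  obtain ⟨L', hp', hr', hm'⟩ := hRed S F L q hp
  have hk' : h⁻¹ = SemidirectProduct.inr q * SemidirectProduct.inl (FreeGroup.mk L') := by
    rw [hk, hm']
  have hleft : h.left = (FreeGroup.mk L')⁻¹ := by
    have e : h = (SemidirectProduct.inr q * SemidirectProduct.inl (FreeGroup.mk L'))⁻¹ := by
      rw [← hk', inv_inv]
    rw [e, mul_inv_rev, SemidirectProduct.mul_left, ← map_inv, ← map_inv,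
      SemidirectProduct.left_inl, SemidirectProduct.left_inr, map_one, mul_one]
  have e1 : FreeGroup.mk L' = FreeGroup.mk (FreeGroup.invRev (M₁ ++ M₂)) := by
    rw [← FreeGroup.inv_mk, ← hl, hleft, inv_inv]
  have e2 : L' = FreeGroup.invRev M₂ ++ FreeGroup.invRev M₁ := by
    rw [← FreeGroup.invRev_append]
    exact eq_of_mk_eq hr' (isReduced_invRev hred) e1
  rw [e2] at hp'
  obtain ⟨q'', hq''⟩ := path_suffix hInv F _ _ q hp'
  refine ⟨(SemidirectProduct.inr q'' *
      SemidirectProduct.inl (FreeGroup.mk (FreeGroup.invRev M₁)))⁻¹,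
    inv_mem (hMem S F _ _ hq''), ?_⟩
  rw [mul_inv_rev, SemidirectProduct.mul_left, ← map_inv, ← map_inv,
    SemidirectProduct.left_inl, SemidirectProduct.left_inr, map_one, mul_one,
    FreeGroup.inv_mk, FreeGroup.invRev_invRev]

/-- **[CONVEX]** -/
theorem pkgConvex (hPath : PkgPath.{u}) (hRed : PkgRed.{u}) (hInv : PkgInv.{u})
    (hMem : PkgMem.{u}) : PkgConvex.{u} := by
  intro Ω _ S F v L₁ L₂ hred ⟨g, hg, hgv⟩ ⟨g', hg', hgv'⟩
  have hl : (g⁻¹ * g').left =
      FreeGroup.mk ((L₁.map fun ℓ => (xperm F g.right⁻¹ ℓ.1, ℓ.2)) ++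
        (L₂.map fun ℓ => (xperm F g.right⁻¹ ℓ.1, ℓ.2))) := by
    rw [SemidirectProduct.mul_left, SemidirectProduct.inv_left, SemidirectProduct.inv_right,
      hgv, hgv', ← map_mul, inv_mul_cancel_left, ← List.map_append]
    exact autX_mk (xperm F) g.right⁻¹ (L₁ ++ L₂)
  have hred' : FreeGroup.IsReduced ((L₁.map fun ℓ => (xperm F g.right⁻¹ ℓ.1, ℓ.2)) ++
      (L₂.map fun ℓ => (xperm F g.right⁻¹ ℓ.1, ℓ.2))) := by
    rw [← List.map_append]
    exact isReduced_map_perm (xperm F g.right⁻¹) hred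
  obtain ⟨k, hk, hkl⟩ := convex_star hPath hRed hInv hMem F (g⁻¹ * g')
    (mul_mem (inv_mem hg) hg') _ _ hred' hl
  refine ⟨g * k, mul_mem hg hk, ?_⟩
  rw [SemidirectProduct.mul_left, hgv, hkl]
  congr 1
  have e : autF F g.right (FreeGroup.mk (L₁.map fun ℓ => (xperm F g.right⁻¹ ℓ.1, ℓ.2))) =
      FreeGroup.mk ((L₁.map fun ℓ => (xperm F g.right⁻¹ ℓ.1, ℓ.2)).map
        fun ℓ => (xperm F g.right ℓ.1, ℓ.2)) :=
    autX_mk (xperm F) g.right _
  rw [e, List.map_map]
  congr 1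
  conv_rhs => rw [← List.map_id L₁]
  apply List.map_congr_left
  intro ℓ _
  have : xperm F g.right (xperm F g.right⁻¹ ℓ.1) = ℓ.1 := by
    rw [← Equiv.Perm.mul_apply, ← map_mul, mul_inv_cancel, map_one, Equiv.Perm.one_apply]
  exact Prod.ext this rfl

end Cfsg.Agent.Lib.Helper74.LSF
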